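import Groth.Prelude.Def_CartDual2
import Groth.Agent.Hopf.LocalHopf
import Groth.Agent.S11926
import Groth.Agent.Misc1.EtaleSplit.Basic
import Groth.Agent.Misc1.Unip.Quotient
import Mathlib.RingTheory.Bialgebra.TensorProduct
import Mathlib.RingTheory.Bialgebra.Equiv
import Mathlib.RingTheory.SimpleModule.Basic
import Mathlib.RingTheory.Artinian.Module

/-!
# Splitting finite commutative cocommutative Hopf algebras, and homomorphisms between the factors
-/

set_option autoImplicit false
set_option linter.style.haveILetI false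
set_option linter.unusedSectionVars false

universe u

open TensorProduct WithConv

noncomputable section

namespace Groth.Misc1.DualSplit

variable {k : Type u} [Field k]

section Basic

variable {A B : Type u} [CommRing A] [Bialgebra k A] [CommRing B] [Bialgebra k B]

/-- cocommutativity passes to quotients -/
theorem isCocomm_of_surjective [Coalgebra.IsCocomm k A] (f : A →ₐc[k] B) (hf : Function.Surjective f) :
    Coalgebra.IsCocomm k B := by
  refine ⟨LinearMap.ext fun b => ?_⟩
  obtain ⟨a, rfl⟩ := hf b
  have e : ∀ z : A ⊗[k] A, TensorProduct.comm k B B (TensorProduct.map (f : A →ₗ[k] B) (f : A →ₗ[k] B) z) =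
      TensorProduct.map (f : A →ₗ[k] B) (f : A →ₗ[k] B) (TensorProduct.comm k A A z) := fun z => by
    induction z using TensorProduct.induction_on with
    | zero => simp
    | tmul x y => simp
    | add x y hx hy => simp only [map_add, hx, hy]
  change TensorProduct.comm k B B (Coalgebra.comul (R := k) (f a)) = Coalgebra.comul (R := k) (f a)
  rw [← CoalgHomClass.map_comp_comul_apply f a, e, Coalgebra.comm_comul]

/-- homomorphisms factoring through the trivial group -/
def Triv {A B : Type u} [Semiring A] [Bialgebra k A] [Semiring B] [Bialgebra k B] (f : A →ₐc[k] B) : Prop :=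
  ∀ a, f a = algebraMap k B (Coalgebra.counit (R := k) a)

end Basic

section Tensor

variable {T U B : Type u} [CommRing T] [Bialgebra k T] [CommRing U] [Bialgebra k U] [CommRing B] [Bialgebra k B]

def incL : T →ₐc[k] T ⊗[k] U :=
  (Bialgebra.TensorProduct.map (BialgHom.id k T) (Bialgebra.unitBialgHom k U)).comp
    (Bialgebra.TensorProduct.rid k k T).symm.toBialgHom

def incR : U →ₐc[k] T ⊗[k] U :=
  (Bialgebra.TensorProduct.map (Bialgebra.unitBialgHom k T) (BialgHom.id k U)).comp
    (Bialgebra.TensorProduct.lid k U).symm.toBialgHom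

def prL : T ⊗[k] U →ₐc[k] T :=
  (Bialgebra.TensorProduct.rid k k T).toBialgHom.comp
    (Bialgebra.TensorProduct.map (BialgHom.id k T) (Bialgebra.counitBialgHom k U))

def prR : T ⊗[k] U →ₐc[k] U :=
  (Bialgebra.TensorProduct.lid k U).toBialgHom.comp
    (Bialgebra.TensorProduct.map (Bialgebra.counitBialgHom k T) (BialgHom.id k U))

@[simp] theorem incL_apply (t : T) : (incL t : T ⊗[k] U) = t ⊗ₜ 1 := by simp [incL]

@[simp] theorem incR_apply (u : U) : (incR u : T ⊗[k] U) = 1 ⊗ₜ u := by simp [incR]

@[simp] theorem prL_tmul (t : T) (u : U) : (prL (t ⊗ₜ[k] u) : T) = Coalgebra.counit (R := k) u • t := by simp [prL]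

@[simp] theorem prR_tmul (t : T) (u : U) : (prR (t ⊗ₜ[k] u) : U) = Coalgebra.counit (R := k) t • u := by simp [prR]

theorem prL_surjective : Function.Surjective (prL : T ⊗[k] U →ₐc[k] T) := fun t => ⟨t ⊗ₜ 1, by simp⟩

theorem prR_surjective : Function.Surjective (prR : T ⊗[k] U →ₐc[k] U) := fun u => ⟨1 ⊗ₜ u, by simp⟩

theorem eq_incL_prL (h : T ⊗[k] U →ₐc[k] B) (hR : Triv (h.comp incR)) (w : T ⊗[k] U) :
    h w = h (incL (prL w)) := by
  induction w using TensorProduct.induction_on with
  | zero => simp
  | add x y hx hy => simp only [map_add, hx, hy]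
  | tmul t u =>
    have e : h (1 ⊗ₜ u) = algebraMap k B (Coalgebra.counit (R := k) u) := by
      have := hR u
      simpa using this
    rw [show t ⊗ₜ[k] u = (t ⊗ₜ[k] (1 : U)) * (1 ⊗ₜ u) by simp, map_mul, e]
    rw [Algebra.TensorProduct.tmul_mul_tmul, mul_one, one_mul, prL_tmul, map_smul, map_smul, Algebra.smul_def, incL_apply, mul_comm]

theorem eq_incR_prR (h : T ⊗[k] U →ₐc[k] B) (hL : Triv (h.comp incL)) (w : T ⊗[k] U) :
    h w = h (incR (prR w)) := by
  induction w using TensorProduct.induction_on with
  | zero => simp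
  | add x y hx hy => simp only [map_add, hx, hy]
  | tmul t u =>
    have e : h (t ⊗ₜ 1) = algebraMap k B (Coalgebra.counit (R := k) t) := by
      have := hL t
      simpa using this
    rw [show t ⊗ₜ[k] u = (t ⊗ₜ[k] (1 : U)) * (1 ⊗ₜ u) by simp, map_mul, e]
    rw [Algebra.TensorProduct.tmul_mul_tmul, mul_one, one_mul, prR_tmul, map_smul, map_smul, Algebra.smul_def, incR_apply]

theorem triv_tensor (hT : ∀ g : T →ₐc[k] B, Triv g) (hU : ∀ g : U →ₐc[k] B, Triv g) (h : T ⊗[k] U →ₐc[k] B) :
    Triv h := fun w => by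
  rw [eq_incL_prL h (hU _) w, show h (incL (prL w)) = (h.comp incL) (prL w) from rfl, hT (h.comp incL) (prL w),
    CoalgHomClass.counit_comp_apply prL w]

variable {A : Type u} [CommRing A] [Bialgebra k A] [Coalgebra.IsCocomm k A]

/-- `a ↦ p a₁ ⊗ q a₂` -/
def pair (p : A →ₐc[k] T) (q : A →ₐc[k] U) : A →ₐc[k] T ⊗[k] U :=
  (Bialgebra.TensorProduct.map p q).comp (Bialgebra.comulBialgHom k A)

theorem prL_pair (p : A →ₐc[k] T) (q : A →ₐc[k] U) (a : A) : prL (pair p q a) = p a := by
  have e : ∀ z : A ⊗[k] A, prL (Bialgebra.TensorProduct.map p q z) =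
      p (TensorProduct.rid k A ((Coalgebra.counit (R := k) (A := A)).lTensor A z)) := fun z => by
    induction z using TensorProduct.induction_on with
    | zero => simp
    | tmul x y => simp [CoalgHomClass.counit_comp_apply]
    | add x y hx hy => simp only [map_add, hx, hy]
  change prL (Bialgebra.TensorProduct.map p q (Coalgebra.comul (R := k) a)) = p a
  rw [e, Coalgebra.lTensor_counit_comul]
  simp

theorem prR_pair (p : A →ₐc[k] T) (q : A →ₐc[k] U) (a : A) : prR (pair p q a) = q a := by
  have e : ∀ z : A ⊗[k] A, prR (Bialgebra.TensorProduct.map p q z) =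
      q (TensorProduct.lid k A ((Coalgebra.counit (R := k) (A := A)).rTensor A z)) := fun z => by
    induction z using TensorProduct.induction_on with
    | zero => simp
    | tmul x y => simp [CoalgHomClass.counit_comp_apply]
    | add x y hx hy => simp only [map_add, hx, hy]
  change prR (Bialgebra.TensorProduct.map p q (Coalgebra.comul (R := k) a)) = q a
  rw [e, Coalgebra.rTensor_counit_comul]
  simp

variable {p : A →ₐc[k] T} {q : A →ₐc[k] U}

theorem factor_left (h : Function.Bijective (pair p q)) (g : A →ₐc[k] B) (hU : ∀ f : U →ₐc[k] B, Triv f) :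
    ∃ f : T →ₐc[k] B, ∀ a, g a = f (p a) := by
  let e := BialgEquiv.ofBijective (pair p q) h
  refine ⟨(g.comp e.symm.toBialgHom).comp incL, fun a => ?_⟩
  have := eq_incL_prL (g.comp e.symm.toBialgHom) (hU _) (e a)
  rw [show (prL (e a) : T) = p a from prL_pair p q a] at this
  rwa [show (g.comp e.symm.toBialgHom) (e a) = g a from congrArg g (e.symm_apply_apply a)] at this

theorem factor_right (h : Function.Bijective (pair p q)) (g : A →ₐc[k] B) (hT : ∀ f : T →ₐc[k] B, Triv f) :
    ∃ f : U →ₐc[k] B, ∀ a, g a = f (q a) := by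
  let e := BialgEquiv.ofBijective (pair p q) h
  refine ⟨(g.comp e.symm.toBialgHom).comp incR, fun a => ?_⟩
  have := eq_incR_prR (g.comp e.symm.toBialgHom) (hT _) (e a)
  rw [show (prR (e a) : U) = q a from prR_pair p q a] at this
  rwa [show (g.comp e.symm.toBialgHom) (e a) = g a from congrArg g (e.symm_apply_apply a)] at this

theorem surjective_left (h : Function.Bijective (pair p q)) : Function.Surjective p := fun t => by
  obtain ⟨w, hw⟩ := (prL_surjective (k := k) (U := U)) t
  obtain ⟨a, rfl⟩ := h.2 w
  exact ⟨a, (prL_pair p q a).symm.trans hw⟩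

theorem surjective_right (h : Function.Bijective (pair p q)) : Function.Surjective q := fun t => by
  obtain ⟨w, hw⟩ := (prR_surjective (k := k) (T := T)) t
  obtain ⟨a, rfl⟩ := h.2 w
  exact ⟨a, (prR_pair p q a).symm.trans hw⟩

theorem finrank_eq_mul (h : Function.Bijective (pair p q)) :
    Module.finrank k A = Module.finrank k T * Module.finrank k U := by
  rw [← Module.finrank_tensorProduct]
  exact (LinearEquiv.ofBijective (pair p q : A →ₗ[k] T ⊗[k] U) h).finrank_eq

theorem nested_pair {L V W : Type u} [CommRing L] [Bialgebra k L] [Coalgebra.IsCocomm k L] [CommRing V]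
    [Bialgebra k V] [CommRing W] [Bialgebra k W] {q : A →ₐc[k] L} {v : L →ₐc[k] V} {w : L →ₐc[k] W}
    (h : Function.Bijective (pair p q)) (h' : Function.Bijective (pair v w)) :
    Function.Bijective (pair p (pair (v.comp q) (w.comp q))) := by
  have e1 : ∀ a, pair (v.comp q) (w.comp q) a = pair v w (q a) := fun a => by
    change Bialgebra.TensorProduct.map (v.comp q) (w.comp q) (Coalgebra.comul (R := k) a) =
      Bialgebra.TensorProduct.map v w (Coalgebra.comul (R := k) (q a))
    rw [← CoalgHomClass.map_comp_comul_apply q a]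
    induction Coalgebra.comul (R := k) a using TensorProduct.induction_on with
    | zero => simp
    | tmul x y => simp
    | add x y hx hy => simp only [map_add, hx, hy]
  let e := LinearEquiv.ofBijective (pair v w : L →ₗ[k] V ⊗[k] W) h'
  have e2 : ∀ a, pair p (pair (v.comp q) (w.comp q)) a =
      TensorProduct.congr (LinearEquiv.refl k T) e (pair p q a) := fun a => by
    change Bialgebra.TensorProduct.map p (pair (v.comp q) (w.comp q)) (Coalgebra.comul (R := k) a) =
      TensorProduct.congr (LinearEquiv.refl k T) e (Bialgebra.TensorProduct.map p q (Coalgebra.comul (R := k) a))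
    induction Coalgebra.comul (R := k) a using TensorProduct.induction_on with
    | zero => simp
    | tmul x y => simp [e, e1]
    | add x y hx hy => simp only [map_add, hx, hy]
  rw [show ⇑(pair p (pair (v.comp q) (w.comp q))) = _ from funext e2]
  exact (TensorProduct.congr (LinearEquiv.refl k T) e).bijective.comp h

end Tensor

section Homs

variable {S T : Type u} [CommRing S] [Bialgebra k S] [FiniteDimensional k S] [CommRing T] [Bialgebra k T]
  [FiniteDimensional k T]

theorem triv_of_local_of_reduced [IsLocalRing S] [IsReduced T] (f : S →ₐc[k] T) : Triv f := fun s => by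
  have h : IsNilpotent (s - algebraMap k S (Coalgebra.counit (R := k) s)) :=
    Groth.ComodLib.LocalHopf.nil_of_isLocalRing (k := k) _ (by rw [map_sub, AlgHom.commutes]; simp)
  have := (h.map f).eq_zero
  rw [map_sub, sub_eq_zero] at this
  rw [this, AlgHomClass.commutes]

theorem triv_of_reduced_of_local [IsReduced S] [IsLocalRing T] (f : S →ₐc[k] T) : Triv f := fun s => by
  haveI : IsArtinianRing S := IsArtinianRing.of_finite k S
  haveI : IsSemisimpleRing S := IsArtinianRing.isSemisimpleRing_of_isReduced S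
  obtain ⟨e, he, hI⟩ := IsSemisimpleRing.ideal_eq_span_idempotent (RingHom.ker (Bialgebra.counitAlgHom k S))
  have he0 : Bialgebra.counitAlgHom k S e = 0 := RingHom.mem_ker.1 (hI ▸ Ideal.mem_span_singleton_self e)
  obtain ⟨m, hm⟩ := Groth.ComodLib.LocalHopf.nil_of_isLocalRing (k := k) (f e)
    ((CoalgHomClass.counit_comp_apply f e).trans he0)
  have hfe : f e = 0 := by
    have h1 : f e ^ (m + 1) = f e := (he.map f).pow_succ_eq m
    rw [← h1, pow_succ, hm, zero_mul]
  have hs : s - algebraMap k S (Coalgebra.counit (R := k) s) ∈ RingHom.ker (Bialgebra.counitAlgHom k S) := by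
    simp [RingHom.mem_ker]
  rw [hI] at hs
  obtain ⟨c, hc⟩ := Ideal.mem_span_singleton'.1 hs
  have := congrArg f hc
  rw [map_mul, hfe, mul_zero, map_sub, AlgHomClass.commutes, eq_comm, sub_eq_zero] at this
  exact this

theorem triv_of_transpose (f : S →ₐc[k] T) (h : Triv (CartDual.transpose k f)) : Triv f := fun s => by
  rw [← sub_eq_zero]
  refine (Module.forall_dual_apply_eq_zero_iff k _).1 fun φ => ?_
  have e := congrArg (fun x : CartDual.D k S => x s) (h (toConv φ))
  simp only [CartDual.transpose_apply, CartDual.coalgebra_counit_apply, Algebra.algebraMap_eq_smul_one] at e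
  rw [map_sub, sub_eq_zero, Algebra.algebraMap_eq_smul_one, map_smul, smul_eq_mul, show φ (f s) = _ from e]
  simp [LinearMap.convOne_def, mul_comm]

end Homs

section Dual

variable {X Y : Type u} [CommRing X] [Bialgebra k X] [FiniteDimensional k X] [CommRing Y] [Bialgebra k Y]
  [FiniteDimensional k Y]

theorem eval_injective : Function.Injective (CartDual.eval k X) := fun a b h => by
  rw [← sub_eq_zero]
  refine (Module.forall_dual_apply_eq_zero_iff k _).1 fun φ => ?_
  have := congrArg (fun z : CartDual.D k (CartDual.D k X) => z (toConv φ)) h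
  simp only [CartDual.eval_apply] at this
  rw [map_sub, sub_eq_zero]
  exact this

theorem finrank_dual : Module.finrank k (CartDual.D k X) = Module.finrank k X :=
  (CartDual.toDual k X).finrank_eq.trans Subspace.dual_finrank_eq

theorem eval_bijective : Function.Bijective (CartDual.eval k X) :=
  ⟨eval_injective, (LinearMap.injective_iff_surjective_of_finrank_eq_finrank
    (f := (CartDual.eval k X : X →ₗ[k] CartDual.D k (CartDual.D k X)))
    (((CartDual.toDual k (CartDual.D k X)).finrank_eq.trans Subspace.dual_finrank_eq).trans finrank_dual).symm).1 eval_injective⟩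

theorem transpose_bijective (e : X ≃ₐc[k] Y) : Function.Bijective (CartDual.transpose k e.toBialgHom) := by
  refine Function.bijective_iff_has_inverse.2 ⟨CartDual.transpose k e.symm.toBialgHom, fun x => ?_, fun x => ?_⟩ <;>
    · refine WithConv.ofConv_injective (LinearMap.ext fun a => ?_)
      simp [← CartDual.coe_apply]

/-- the splitting of the dual gives a splitting -/
theorem exists_dual_split [Coalgebra.IsCocomm k X] {C₁ C₂ : Type u} [CommRing C₁] [Bialgebra k C₁]
    [FiniteDimensional k C₁] [Coalgebra.IsCocomm k C₁] [CommRing C₂] [Bialgebra k C₂] [FiniteDimensional k C₂]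
    [Coalgebra.IsCocomm k C₂]
    (p : CartDual.D k X →ₐc[k] C₁) (q : CartDual.D k X →ₐc[k] C₂) (h : Function.Bijective (pair p q)) :
    ∃ (f : X →ₐc[k] CartDual.D k C₁) (g : X →ₐc[k] CartDual.D k C₂), Function.Bijective (pair f g) := by
  let e := BialgEquiv.ofBijective (pair p q) h
  let σ : C₁ →ₐc[k] CartDual.D k X := e.symm.toBialgHom.comp incL
  let τ : C₂ →ₐc[k] CartDual.D k X := e.symm.toBialgHom.comp incR
  let f := (CartDual.transpose k σ).comp (CartDual.eval k X)
  let g := (CartDual.transpose k τ).comp (CartDual.eval k X)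
  refine ⟨f, g, ?_⟩
  let ev : CartDual.D k C₁ ⊗[k] CartDual.D k C₂ →ₗ[k] Module.Dual k (C₁ ⊗[k] C₂) :=
    TensorProduct.dualDistrib k C₁ C₂ ∘ₗ
      TensorProduct.map (CartDual.toDual k C₁).toLinearMap (CartDual.toDual k C₂).toLinearMap
  have key : ∀ (b : X) (c : C₁) (c' : C₂), ev (pair f g b) (c ⊗ₜ c') = (e.symm (c ⊗ₜ c')) b := fun b c c' => by
    have h1 : e.symm (c ⊗ₜ c') = σ c * τ c' := by
      rw [show c ⊗ₜ[k] c' = (c ⊗ₜ[k] (1 : C₂)) * (1 ⊗ₜ c') by simp, map_mul]
      simp [σ, τ]
    rw [h1, LinearMap.convMul_apply]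
    change ev (Bialgebra.TensorProduct.map f g (Coalgebra.comul (R := k) b)) (c ⊗ₜ c') = _
    induction Coalgebra.comul (R := k) b using TensorProduct.induction_on with
    | zero => simp
    | add x y hx hy => simp only [map_add, LinearMap.add_apply, hx, hy]
    | tmul x y => simp [ev, f, g, ← CartDual.coe_apply]
  have hinj : Function.Injective (pair f g) := fun a b hab => by
    rw [← sub_eq_zero]
    refine (Module.forall_dual_apply_eq_zero_iff k _).1 fun φ => ?_
    have h2 : ∀ w, (e.symm w) (a - b) = 0 := fun w => by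
      induction w using TensorProduct.induction_on with
      | zero => simp
      | add x y hx hy => rw [map_add, ofConv_add, LinearMap.add_apply, hx, hy, add_zero]
      | tmul c c' => rw [map_sub, ← key, ← key, hab, sub_self]
    simpa using h2 (e (toConv φ))
  refine ⟨hinj, (LinearMap.injective_iff_surjective_of_finrank_eq_finrank
    (f := (pair f g : X →ₗ[k] CartDual.D k C₁ ⊗[k] CartDual.D k C₂)) ?_).1 hinj⟩
  rw [Module.finrank_tensorProduct, finrank_dual, finrank_dual, ← finrank_eq_mul h, finrank_dual]

end Dual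

section Transfer

variable {A : Type u} [CommRing A] [Bialgebra k A] [Coalgebra.IsCocomm k A]

theorem pair_swap {T U : Type u} [CommRing T] [Bialgebra k T] [CommRing U] [Bialgebra k U] (p : A →ₐc[k] T)
    (q : A →ₐc[k] U) (h : Function.Bijective (pair p q)) : Function.Bijective (pair q p) := by
  have e : ∀ a, pair q p a = TensorProduct.comm k T U (pair p q a) := fun a => by
    change Bialgebra.TensorProduct.map q p (Coalgebra.comul (R := k) a) =
      TensorProduct.comm k T U (Bialgebra.TensorProduct.map p q (Coalgebra.comul (R := k) a))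
    conv_lhs => rw [← Coalgebra.comm_comul k a]
    induction Coalgebra.comul (R := k) a using TensorProduct.induction_on with
    | zero => simp
    | tmul x y => simp
    | add x y hx hy => simp only [map_add, hx, hy]
  rw [show ⇑(pair q p) = _ from funext e]
  exact (TensorProduct.comm k T U).bijective.comp h

theorem pair_congr {T T' U U' : Type u} [CommRing T] [Bialgebra k T] [CommRing U] [Bialgebra k U]
    [CommRing T'] [Bialgebra k T'] [CommRing U'] [Bialgebra k U'] (p : A →ₐc[k] T) (q : A →ₐc[k] U)
    (p' : A →ₐc[k] T') (q' : A →ₐc[k] U') (e₁ : T ≃ₗ[k] T') (e₂ : U ≃ₗ[k] U')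
    (h₁ : ∀ a, e₁ (p a) = p' a) (h₂ : ∀ a, e₂ (q a) = q' a) (h : Function.Bijective (pair p' q')) :
    Function.Bijective (pair p q) := by
  have e : ∀ a, TensorProduct.congr e₁ e₂ (pair p q a) = pair p' q' a := fun a => by
    change TensorProduct.congr e₁ e₂ (Bialgebra.TensorProduct.map p q (Coalgebra.comul (R := k) a)) =
      Bialgebra.TensorProduct.map p' q' (Coalgebra.comul (R := k) a)
    induction Coalgebra.comul (R := k) a using TensorProduct.induction_on with
    | zero => simp
    | tmul x y => simp [h₁, h₂]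
    | add x y hx hy => simp only [map_add, hx, hy]
  rw [← show (TensorProduct.congr e₁ e₂) ∘ ⇑(pair p q) = _ from funext e] at h
  exact (Function.Bijective.of_comp_iff' (TensorProduct.congr e₁ e₂).bijective _).1 h

theorem comul_of_factor {A B : Type u} [CommRing A] [Bialgebra k A] [CommRing B] [Bialgebra k B] {Q : Type u}
    [CommRing Q] [Bialgebra k Q] (π : A →ₐc[k] Q) (hπ : Function.Surjective π) (f : A →ₐc[k] B) (e : Q →ₐ[k] B)
    (he : ∀ a, e (π a) = f a) :
    (Algebra.TensorProduct.map e e).comp (Bialgebra.comulAlgHom k Q) = (Bialgebra.comulAlgHom k B).comp e := by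
  refine AlgHom.ext fun x => ?_
  obtain ⟨a, rfl⟩ := hπ x
  have key : ∀ z : A ⊗[k] A, Algebra.TensorProduct.map e e (TensorProduct.map (π : A →ₗ[k] Q) (π : A →ₗ[k] Q) z) =
      TensorProduct.map (f : A →ₗ[k] B) (f : A →ₗ[k] B) z := fun z => by
    induction z using TensorProduct.induction_on with
    | zero => simp
    | tmul x y => simp [he]
    | add x y hx hy => simp only [map_add, hx, hy]
  simp only [AlgHom.comp_apply, Bialgebra.comulAlgHom_apply]
  rw [he, ← CoalgHomClass.map_comp_comul_apply π a, key, CoalgHomClass.map_comp_comul_apply]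

/-- a surjection is a quotient by a Hopf ideal -/
theorem exists_kerEquiv {A B : Type u} [CommRing A] [HopfAlgebra k A] [CommRing B] [HopfAlgebra k B]
    (f : A →ₐc[k] B) (hf : Function.Surjective f) :
    ∃ (I : Ideal A) (_ : I.IsHopfIdeal k) (e : (A ⧸ I) ≃ₐc[k] B),
      ∀ a, e (Bialgebra.Quotient.mkBialgHom (R := k) I a) = f a := by
  obtain ⟨I, hI, e₀, he⟩ : ∃ (I : Ideal A) (_ : I.IsHopfIdeal k) (e₀ : (A ⧸ I) ≃ₐ[k] B),
      ∀ a, e₀ (Ideal.Quotient.mk I a) = f a :=
    ⟨_, Groth.Misc1.Unip.isHopfIdeal_ker f hf,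
      Ideal.quotientKerAlgEquivOfSurjective (f := (f : A →ₐ[k] B)) hf, fun a => rfl⟩
  let e₁ : (A ⧸ I) →ₐc[k] B := BialgHom.ofAlgHom e₀.toAlgHom
    (Ideal.Quotient.algHom_ext k (AlgHom.ext fun a =>
      (congrArg (Coalgebra.counit (R := k)) (he a)).trans (CoalgHomClass.counit_comp_apply f a)))
    (comul_of_factor (Bialgebra.Quotient.mkBialgHom (R := k) I) Ideal.Quotient.mk_surjective f _ he)
  exact ⟨I, hI, BialgEquiv.ofBijective e₁ e₀.bijective, he⟩

theorem pair₃_of_pair {T L V V' W W' : Type u} [CommRing T] [Bialgebra k T] [CommRing L] [Bialgebra k L]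
    [Coalgebra.IsCocomm k L] [CommRing V] [Bialgebra k V] [CommRing W] [Bialgebra k W] [CommRing V']
    [Bialgebra k V'] [CommRing W'] [Bialgebra k W'] {p : A →ₐc[k] T} {q : A →ₐc[k] L} {v : L →ₐc[k] V}
    {w : L →ₐc[k] W} (h : Function.Bijective (pair p q)) (h' : Function.Bijective (pair v w)) (v' : A →ₐc[k] V')
    (w' : A →ₐc[k] W') (e₁ : V' ≃ₗ[k] V) (e₂ : W' ≃ₗ[k] W) (h₁ : ∀ a, e₁ (v' a) = v (q a))
    (h₂ : ∀ a, e₂ (w' a) = w (q a)) : Function.Bijective (pair p (pair v' w')) := by
  refine pair_congr _ _ _ _ (LinearEquiv.refl k _) (TensorProduct.congr e₁ e₂) (fun a => rfl) (fun a => ?_)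
    (nested_pair h h')
  change TensorProduct.congr e₁ e₂ (Bialgebra.TensorProduct.map v' w' (Coalgebra.comul (R := k) a)) =
    Bialgebra.TensorProduct.map (v.comp q) (w.comp q) (Coalgebra.comul (R := k) a)
  induction Coalgebra.comul (R := k) a using TensorProduct.induction_on with
  | zero => simp
  | tmul x y => simp [h₁, h₂]
  | add x y hx hy => simp only [map_add, hx, hy]

end Transfer

section Split

variable [PerfectField k] {X : Type u} [CommRing X] [HopfAlgebra k X] [FiniteDimensional k X]
  [Coalgebra.IsCocomm k X]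

/-- the connected–étale splitting -/
theorem exists_split : ∃ (N L : Ideal X) (_ : N.IsHopfIdeal k) (_ : L.IsHopfIdeal k),
    IsReduced (X ⧸ N) ∧ IsLocalRing (X ⧸ L) ∧
      Function.Bijective (pair (T := X ⧸ N) (U := X ⧸ L) (Bialgebra.Quotient.mkBialgHom (R := k) N) (Bialgebra.Quotient.mkBialgHom (R := k) L)) := by
  haveI : IsReduced (X ⧸ nilradical X) :=
    (Ideal.isRadical_iff_quotient_reduced _).1 (Ideal.radical_isRadical (⊥ : Ideal X))
  haveI := Groth.Agent.S11926.result k X
  obtain ⟨σ, hσ⟩ := Groth.Misc1.EtaleSplit.exists_section (k := k) (E := X)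
  haveI := Groth.Misc1.EtaleSplit.isHopfIdeal_locI σ
  exact ⟨nilradical X, Groth.Misc1.EtaleSplit.locI σ, inferInstance, inferInstance, inferInstance,
    Groth.Misc1.EtaleSplit.isLocalRing_locI σ hσ, Groth.Misc1.EtaleSplit.bijective_locI σ hσ⟩

end Split

end Groth.Misc1.DualSplit
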